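import Groth.Agent.HTopV.Basic
import Groth.Agent.HTopV.Crit
import Groth.Agent.HTopV.Sheaf
import Groth.Agent.SubtrRefineLib.Section

/-! Valuation ring lifting, universal subtrusiveness and standard ph coverings. -/

set_option autoImplicit false
set_option linter.style.haveILetI false
set_option backward.isDefEq.respectTransparency false
set_option backward.isDefEq.respectTransparency.types false

universe w w' u
open CategoryTheory CategoryTheory.Limits AlgebraicGeometry IsLocalRing TopologicalSpace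

noncomputable section

namespace Groth.Agent.HTopPh

open Groth.Agent.HTopV Groth.Agent.SubtrRefineLib

/-- A morphism between spectra of valuation rings which is surjective is an extension. -/
theorem isExtVal_of_surjective {V W : CommRingCat.{u}} [IsDomain V] [ValuationRing V] [IsDomain W]
    [ValuationRing W] (φ : V ⟶ W) (h : Surjective (Spec.map φ)) : HTop.IsExtVal V W φ := by
  have hc : Spec.map φ (closedPoint W) = closedPoint V := by
    obtain ⟨q, hq⟩ := h.surj (closedPoint V)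
    have h1 : Spec.map φ q ⤳ Spec.map φ (closedPoint W) :=
      (IsLocalRing.specializes_closedPoint q).map (Spec.map φ).continuous
    rw [hq] at h1
    exact (le_antisymm (α := PrimeSpectrum V) (IsLocalRing.le_maximalIdeal (Spec.map φ (closedPoint W)).isPrime.ne_top)
      ((PrimeSpectrum.le_iff_specializes _ _).2 h1))
  have hgen : Spec.map φ (genPt W) = genPt V := by
    obtain ⟨q, hq⟩ := h.surj (genPt V)
    have h1 : Spec.map φ (genPt W) ⤳ Spec.map φ q := (genPt_specializes W q).map (Spec.map φ).continuous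
    rw [hq] at h1
    exact le_antisymm (α := PrimeSpectrum V) ((PrimeSpectrum.le_iff_specializes _ _).2 h1) bot_le
  refine ⟨?_, ((local_hom_TFAE φ.hom).out 4 0).mp (congrArg PrimeSpectrum.asIdeal hc)⟩
  rw [RingHom.injective_iff_ker_eq_bot]
  exact congrArg PrimeSpectrum.asIdeal hgen

theorem surjective_of_isExtVal {V W : CommRingCat.{u}} [IsDomain V] [ValuationRing V] [IsDomain W]
    [ValuationRing W] {φ : V ⟶ W} (h : HTop.IsExtVal V W φ) : Surjective (Spec.map φ) := by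
  haveI := h.2
  exact ⟨SubtrVal.comap_surjective φ.hom h.1⟩

variable {T : Scheme.{u}}

theorem univSSubtrusive_of_hasValLift {Z : Scheme.{u}} (f : Z ⟶ T) (E : PreZeroHypercover.{w} T)
    (k : ∀ i, E.X i ⟶ Z) (hk : ∀ i, k i ≫ f = E.f i) (h : HTop.HasValLift E) : Subtr.UnivSSubtrusive f := by
  rw [SubtrVal.univSSubtrusive_iff_lift]
  intro V _ _ _ g
  obtain ⟨W, _, _, φ, hφ, j, g', hg'⟩ := h (CommRingCat.of V) g
  exact ⟨W, inferInstance, inferInstance, inferInstance, g' ≫ k j, Spec.map φ, surjective_of_isExtVal hφ,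
    by rw [Category.assoc, hk]; exact hg'⟩

theorem hasValLift_of_univSSubtrusive {Z : Scheme.{u}} (f : Z ⟶ T) (E : PreZeroHypercover.{w} T)
    (H : Subtr.UnivSSubtrusive f)
    (hZ : ∀ z : Z, ∃ (i : E.I₀) (W : Scheme.{u}) (j : W ⟶ Z) (_ : IsOpenImmersion j) (m : W ⟶ E.X i),
      z ∈ Set.range j ∧ m ≫ E.f i = j ≫ f) : HTop.HasValLift E := by
  intro V _ _ g
  obtain ⟨V', _, _, _, a, b, hb, e⟩ := (SubtrVal.univSSubtrusive_iff_lift f).1 H V g
  obtain ⟨φ, rfl⟩ := Spec.map_surjective b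
  obtain ⟨i, W, j, hj, m, hz, hm⟩ := hZ (a (closedPoint V'))
  haveI := hj
  obtain ⟨a', ha'⟩ := exists_lift_of_closedPoint_mem (W := CommRingCat.of V') j a hz
  refine ⟨CommRingCat.of V', inferInstance, inferInstance, φ, isExtVal_of_surjective φ hb, i, a' ≫ m, ?_⟩
  rw [Category.assoc, hm, reassoc_of% ha', e]

theorem univSSubtrusive_sigmaDesc (E : PreZeroHypercover.{u} T) (h : HTop.HasValLift E) :
    Subtr.UnivSSubtrusive (Limits.Sigma.desc E.f) :=
  univSSubtrusive_of_hasValLift _ E (fun i => Sigma.ι E.X i) (fun i => Sigma.ι_desc _ _) h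

theorem hasValLift_of_sigmaDesc (E : PreZeroHypercover.{u} T) (h : Subtr.UnivSSubtrusive (Limits.Sigma.desc E.f)) :
    HTop.HasValLift E :=
  hasValLift_of_univSSubtrusive _ E h fun z => by
    obtain ⟨i, y, rfl⟩ := (sigmaOpenCover E.X).exists_eq z
    exact ⟨i, E.X i, Sigma.ι E.X i, inferInstance, 𝟙 _, ⟨y, rfl⟩, by rw [Category.id_comp, Sigma.ι_desc]⟩

theorem hasValLift_reindex {E : PreZeroHypercover.{w} T} (h : HTop.HasValLift E) {ι : Type w'} (e : ι ≃ E.I₀) :
    HTop.HasValLift (E.reindex e) := by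
  intro V _ _ g
  obtain ⟨W, hd, hv, φ, hφ, j, l, hl⟩ := h V g
  obtain ⟨j, rfl⟩ := e.surjective j
  exact ⟨W, hd, hv, φ, hφ, j, l, hl⟩

/-- A standard ph covering is a standard V covering. -/
theorem isStandardV_of_isStandardPh {E : PreZeroHypercover.{w} T} (h : HTop.IsStandardPh E) :
    HTop.IsStandardV E := by
  obtain ⟨U, f, ι, hf, hs, hι, hfac, hcov⟩ := h.exists_proper
  refine ⟨h.isAffine, h.finite_index, h.isAffine_obj, hasValLift_of_univSSubtrusive f E
    (ValEtDescLib.univSSubtrusive_of_closed f) fun z => ?_⟩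
  obtain ⟨j, hj⟩ := hcov z
  exact ⟨j, E.X j, ι j, hι j, 𝟙 _, hj, by rw [Category.id_comp, hfac j]⟩

theorem isVCover_of_isPhCover {E : PreZeroHypercover.{w} T} (h : HTop.IsPhCover E) : HTop.IsVCover E := fun U => by
  obtain ⟨F, hF, hr⟩ := h.2 U
  exact ⟨F, isStandardV_of_isStandardPh hF, hr⟩

theorem refinesOver_trans {U : Scheme.{u}} {g : U ⟶ T} {G : PreZeroHypercover.{w'} U}
    {F : PreZeroHypercover.{0} U} {E : PreZeroHypercover.{w} T}
    (h : ∀ j, ∃ (i : F.I₀) (k : G.X j ⟶ F.X i), k ≫ F.f i = G.f j) (hr : HTop.RefinesOver g F E) :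
    HTop.RefinesOver g G E := fun j => by
  obtain ⟨i, k, hk⟩ := h j
  obtain ⟨i', l, hl⟩ := hr i
  exact ⟨i', k ≫ l, by rw [Category.assoc, hl, reassoc_of% hk]⟩

/-- The morphism out of the coproduct of a finite family indexed in universe zero. -/
theorem exists_proper_affineCover_refining [IsAffine T] {ι : Type} [Finite ι] (X : ι → Scheme.{u})
    (f : ∀ i, X i ⟶ T) [∀ i, IsAffine (X i)] [∀ i, LocallyOfFinitePresentation (f i)]
    (h : HTop.HasValLift (⟨ι, X, f⟩ : PreZeroHypercover.{0} T)) :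
    ∃ (Y : Scheme.{u}) (g : Y ⟶ T) (n : ℕ) (V : Fin n → Y.Opens), IsProper g ∧ Surjective g ∧
      LocallyOfFinitePresentation g ∧ (∀ j, IsAffineOpen (V j)) ∧ ⨆ j, V j = ⊤ ∧
      ∀ j, ∃ (i : ι) (h : (V j).toScheme ⟶ X i), h ≫ f i = (V j).ι ≫ g := by
  classical
  let X' : ULift.{u} ι → Scheme.{u} := fun i => X i.down
  let p : ∐ X' ⟶ T := Limits.Sigma.desc fun i => f i.down
  haveI : ∀ i, IsAffine (X' i) := fun i => inferInstanceAs (IsAffine (X i.down))
  haveI : IsAffine (∐ X') := inferInstance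
  haveI : LocallyOfFinitePresentation p := IsZariskiLocalAtSource.sigmaDesc fun i => inferInstance
  haveI : QuasiCompact p := quasiCompact_of_compactSpace p
  haveI : QuasiSeparated p := QuasiSeparated.of_quasiSeparatedSpace p
  have hp : Subtr.UnivSSubtrusive p := univSSubtrusive_of_hasValLift p _ (fun i => Sigma.ι X' ⟨i⟩)
    (fun i => Sigma.ι_desc _ _) h
  obtain ⟨Y, g, hg, hgs, hgl, hloc⟩ := sectionRefinable_proper_of_affine p hp
  haveI : IsProper g := hg
  haveI : CompactSpace Y := QuasiCompact.compactSpace_of_compactSpace g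
  have H : ∀ z : Y, ∃ (O : Y.Opens) (i : ι) (l : O.toScheme ⟶ X i), z ∈ O ∧ IsAffineOpen O ∧ l ≫ f i = O.ι ≫ g := by
    intro z
    obtain ⟨W, hz, s, hs⟩ := hloc z
    obtain ⟨⟨i⟩, x, hx⟩ := (sigmaOpenCover X').exists_eq (s ⟨z, hz⟩)
    obtain ⟨O, hO, hzO, hOW⟩ := exists_isAffineOpen_mem_and_subset (X := Y) (x := z)
      (U := W.ι ''ᵁ (s ⁻¹ᵁ (Sigma.ι X' ⟨i⟩).opensRange)) ⟨⟨z, hz⟩, ⟨x, hx⟩, rfl⟩
    have hle : O ≤ W := fun y hy => by
      obtain ⟨w, -, rfl⟩ := hOW hy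
      exact w.2
    refine ⟨O, i, IsOpenImmersion.lift (Sigma.ι X' ⟨i⟩) (Y.homOfLE hle ≫ s) ?_, hzO, hO, ?_⟩
    · rintro _ ⟨y, rfl⟩
      obtain ⟨w, hw, hwy⟩ := hOW y.2
      rw [Scheme.Hom.comp_apply, show Y.homOfLE hle y = w from W.ι.isOpenEmbedding.injective (by
        rw [← Scheme.Hom.comp_apply, Scheme.homOfLE_ι]; exact hwy.symm)]
      exact hw
    · rw [show f i = Sigma.ι X' ⟨i⟩ ≫ p by simp [p], IsOpenImmersion.lift_fac_assoc,
        Category.assoc, hs, Scheme.homOfLE_ι_assoc]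
  choose O i l hzO hO hl using H
  obtain ⟨t, ht⟩ := isCompact_univ.elim_finite_subcover (fun z => (O z : Set Y)) (fun z => (O z).isOpen)
    fun z _ => Set.mem_iUnion.2 ⟨z, hzO z⟩
  let e := t.equivFin
  refine ⟨Y, g, t.card, fun k => O (e.symm k).1, hg, hgs, hgl, fun k => hO _, ?_, fun k => ⟨_, l _, hl _⟩⟩
  refine eq_top_iff.2 fun y _ => ?_
  obtain ⟨z, hz, hyz⟩ := Set.mem_iUnion₂.1 (ht (Set.mem_univ y))
  exact Opens.mem_iSup.2 ⟨e ⟨z, hz⟩, by show y ∈ O (e.symm (e ⟨z, hz⟩)).1; rw [Equiv.symm_apply_apply]; exact hyz⟩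

/-- A finite affine family of finite presentation with valuation ring lifting is refined by a standard ph
covering. -/
theorem exists_standardPh_refining [IsAffine T] {ι : Type} [Finite ι] (X : ι → Scheme.{u})
    (f : ∀ i, X i ⟶ T) [∀ i, IsAffine (X i)] [∀ i, LocallyOfFinitePresentation (f i)]
    (h : HTop.HasValLift (⟨ι, X, f⟩ : PreZeroHypercover.{0} T)) :
    ∃ G : PreZeroHypercover.{0} T, HTop.IsStandardPh G ∧
      ∀ j, ∃ (i : ι) (k : G.X j ⟶ X i), k ≫ f i = G.f j := by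
  obtain ⟨Y, g, n, V, hg, hgs, -, hV, hcov, hl⟩ := exists_proper_affineCover_refining X f h
  refine ⟨⟨Fin n, fun j => (V j).toScheme, fun j => (V j).ι ≫ g⟩,
    ⟨inferInstance, inferInstanceAs (Finite (Fin n)), fun j => hV j,
      Y, g, fun j => (V j).ι, hg, hgs, fun j => inferInstanceAs (IsOpenImmersion (V j).ι), fun j => rfl, fun y => ?_⟩, hl⟩
  obtain ⟨j, hj⟩ := Opens.mem_iSup.1 (hcov.ge (Set.mem_univ y))
  exact ⟨j, by rw [show (V j).ι.base = _ from rfl]; exact ⟨⟨y, hj⟩, rfl⟩⟩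

/-- A V covering by morphisms of finite presentation is refined over an affine open by a standard h covering
with members of finite presentation. -/
theorem exists_standard_lfp_refining {E : PreZeroHypercover.{w} T} (hE : ∀ i, LocallyOfFinitePresentation (E.f i))
    (h : HTop.IsVCover E) (U : T.affineOpens) :
    ∃ G : PreZeroHypercover.{0} (U.1 : Scheme.{u}), HTop.IsStandardV G ∧
      (∀ j, LocallyOfFinitePresentation (G.f j)) ∧ HTop.RefinesOver U.1.ι G E := by
  classical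
  obtain ⟨F, hF, hr⟩ := h U
  haveI := hF.finite_index
  choose i k hk using hr
  have hcov : ∀ j, ∃ s : Finset (E.X (i j)).affineOpens, (∀ A ∈ s, A.1 ≤ E.f (i j) ⁻¹ᵁ U.1) ∧
      ∀ x : F.X j, ∃ A ∈ s, k j x ∈ A.1 := fun j => by
    haveI := hF.isAffine_obj j
    have hin : Set.range (k j) ⊆ ⋃ A : {A : (E.X (i j)).affineOpens // A.1 ≤ E.f (i j) ⁻¹ᵁ U.1},
        ((A.1.1 : (E.X (i j)).Opens) : Set (E.X (i j))) := by
      rintro _ ⟨x, rfl⟩
      have hx : k j x ∈ E.f (i j) ⁻¹ᵁ U.1 := by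
        show E.f (i j) (k j x) ∈ U.1
        rw [← Scheme.Hom.comp_apply, hk, Scheme.Hom.comp_apply]
        exact (F.f j x).2
      obtain ⟨A, hA, hxA, hAU⟩ := exists_isAffineOpen_mem_and_subset hx
      exact Set.mem_iUnion.2 ⟨⟨⟨A, hA⟩, hAU⟩, hxA⟩
    obtain ⟨s, hs⟩ := (isCompact_range (k j).continuous).elim_finite_subcover
      (fun A : {A : (E.X (i j)).affineOpens // A.1 ≤ E.f (i j) ⁻¹ᵁ U.1} => ((A.1.1 : (E.X (i j)).Opens) : Set (E.X (i j))))
      (fun A => A.1.1.isOpen) hin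
    refine ⟨s.image (·.1), fun A hA => ?_, fun x => ?_⟩
    · obtain ⟨A', -, rfl⟩ := Finset.mem_image.1 hA
      exact A'.2
    · obtain ⟨A, hA, hx⟩ := Set.mem_iUnion₂.1 (hs ⟨x, rfl⟩)
      exact ⟨A.1, Finset.mem_image_of_mem _ hA, hx⟩
  choose s hsU hs using hcov
  let κ := Σ j, s j
  have hrange : ∀ c : κ, Set.range (c.2.1.1.ι ≫ E.f (i c.1)) ⊆ Set.range U.1.ι := fun c => by
    rintro _ ⟨x, rfl⟩
    rw [Scheme.Opens.range_ι, Scheme.Hom.comp_apply]
    exact hsU c.1 c.2.1 c.2.2 x.2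
  let G : PreZeroHypercover.{max u 0} (U.1 : Scheme.{u}) := ⟨κ, fun c => c.2.1.1.toScheme,
    fun c => IsOpenImmersion.lift U.1.ι (c.2.1.1.ι ≫ E.f (i c.1)) (hrange c)⟩
  haveI : Finite κ := inferInstance
  have hfac : ∀ c : κ, G.f c ≫ U.1.ι = c.2.1.1.ι ≫ E.f (i c.1) := fun c => IsOpenImmersion.lift_fac _ _ _
  have hGlfp : ∀ c : κ, LocallyOfFinitePresentation (G.f c) := fun c => by
    haveI := hE (i c.1)
    have e : G.f c = (E.X (i c.1)).homOfLE (hsU c.1 c.2.1 c.2.2) ≫ (E.f (i c.1) ∣_ U.1) := by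
      rw [← cancel_mono U.1.ι, hfac c, Category.assoc, morphismRestrict_ι, Scheme.homOfLE_ι_assoc]
    rw [e]
    exact MorphismProperty.comp_mem _ _ _ inferInstance inferInstance
  have hG : HTop.IsStandardV G := by
    refine ⟨U.2, inferInstanceAs (Finite κ), fun c => c.2.1.2, fun V _ _ g => ?_⟩
    obtain ⟨W, hd, hv, φ, hφ, j, l, hl⟩ := hF.lift V g
    obtain ⟨A, hA, hx⟩ := hs j (l (closedPoint W))
    obtain ⟨l', hl'⟩ := exists_lift_of_closedPoint_mem A.1.ι (l ≫ k j) (by rwa [Scheme.Opens.range_ι])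
    refine ⟨W, hd, hv, φ, hφ, ⟨j, ⟨A, hA⟩⟩, l', ?_⟩
    rw [← cancel_mono U.1.ι, Category.assoc, hfac ⟨j, ⟨A, hA⟩⟩, reassoc_of% hl', hk, reassoc_of% hl, Category.assoc]
  haveI := hG.finite_index
  refine ⟨G.reindex (Finite.equivFin G.I₀).symm, isStandardV_reindex hG _, fun c => hGlfp _, fun c => ?_⟩
  exact ⟨_, ((Finite.equivFin G.I₀).symm c).2.1.1.ι, (hfac _).symm⟩

theorem isPhCover_of_isVCover {E : PreZeroHypercover.{w} T} (hE : ∀ i, LocallyOfFinitePresentation (E.f i))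
    (h : HTop.IsVCover E) : HTop.IsPhCover E := by
  refine ⟨fun i => inferInstance, fun U => ?_⟩
  obtain ⟨G, hG, hlfp, hr⟩ := exists_standard_lfp_refining hE h U
  haveI := hG.finite_index
  haveI : IsAffine (U.1 : Scheme.{u}) := U.2
  haveI := hG.isAffine_obj
  haveI := hlfp
  obtain ⟨P, hP, hPr⟩ := exists_standardPh_refining G.X G.f hG.lift
  exact ⟨P, hP, refinesOver_trans hPr hr⟩

end Groth.Agent.HTopPh
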