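import Groth.Agent.HTopPh.Limit
import Groth.Agent.ValEtDescLib.ValSystem

/-! A morphism of affine schemes as a limit of affine schemes of finite presentation; V, ph and h. -/

set_option autoImplicit false
set_option linter.style.haveILetI false
set_option backward.isDefEq.respectTransparency false
set_option backward.isDefEq.respectTransparency.types false

universe w u
open CategoryTheory CategoryTheory.Limits AlgebraicGeometry Opposite

noncomputable section

namespace Groth.Agent.HTopPh

open Groth.Agent.HTopV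

/-- A morphism of affine schemes is a cofiltered limit of affine morphisms of finite presentation. -/
theorem exists_lfp_system {X Y : Scheme.{u}} [IsAffine X] [IsAffine Y] (f : X ⟶ Y) :
    ∃ (I : Type u) (_ : SmallCategory I) (_ : IsCofiltered I) (D : I ⥤ Over Y) (c : Cone D)
      (_ : IsLimit ((Over.forget Y).mapCone c)) (_ : c.pt ≅ Over.mk f),
      (∀ i, IsAffine (D.obj i).left) ∧ ∀ i, LocallyOfFinitePresentation (D.obj i).hom := by
  letI := f.appTop.hom.toAlgebra
  let S := ValEtDescLib.fpSys Γ(Y, ⊤) Γ(X, ⊤)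
  have hnat : ∀ {i j} (h : i ⟶ j), S.sys.map h ≫ S.toBase.app j = S.toBase.app i := fun h =>
    (S.toBase.naturality h).trans (Category.comp_id _)
  let D : (ValEtDescLib.FPIdx Γ(Y, ⊤) Γ(X, ⊤))ᵒᵖ ⥤ Over Y :=
    { obj := fun k => Over.mk (S.toBase.app k ≫ Y.isoSpec.inv)
      map := fun {i j} h => Over.homMk (S.sys.map h) (by
        show S.sys.map h ≫ S.toBase.app j ≫ Y.isoSpec.inv = S.toBase.app i ≫ Y.isoSpec.inv
        rw [reassoc_of% hnat h])
      map_id := fun k => Over.OverMorphism.ext (S.sys.map_id k)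
      map_comp := fun h h' => Over.OverMorphism.ext (S.sys.map_comp h h') }
  have hf : ∀ k, (X.isoSpec.hom ≫ S.π.app k) ≫ S.toBase.app k ≫ Y.isoSpec.inv = f := fun k => by
    rw [Category.assoc, reassoc_of% S.π_toBase k]
    show X.isoSpec.hom ≫ Spec.map f.appTop ≫ Y.isoSpec.inv = f
    rw [← Category.assoc, Scheme.isoSpec_hom_naturality, Category.assoc, Iso.hom_inv_id, Category.comp_id]
  let c : Cone D :=
    { pt := Over.mk f
      π :=
        { app := fun k => Over.homMk (X.isoSpec.hom ≫ S.π.app k) (hf k)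
          naturality := fun i j h => Over.OverMorphism.ext (by
            show 𝟙 X ≫ X.isoSpec.hom ≫ S.π.app j = (X.isoSpec.hom ≫ S.π.app i) ≫ S.sys.map h
            rw [Category.id_comp, Category.assoc]
            exact congrArg (X.isoSpec.hom ≫ ·) ((Category.id_comp _).symm.trans (S.π.naturality h))) } }
  refine ⟨_, inferInstance, inferInstance, D, c, ?_, Iso.refl _, fun k => S.isAffine k, fun k => ?_⟩
  · refine IsLimit.ofIsoLimit S.isLimit (Cone.ext X.isoSpec.symm fun k => ?_)
    show S.π.app k = X.isoSpec.inv ≫ X.isoSpec.hom ≫ S.π.app k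
    rw [Iso.inv_hom_id_assoc]
  · haveI := ValEtDescLib.lfp_toBase Γ(Y, ⊤) Γ(X, ⊤) k
    exact MorphismProperty.comp_mem _ _ _ inferInstance inferInstance

theorem isStandardV_singleton_of_isVCover {X Y : Scheme.{u}} [IsAffine X] [IsAffine Y] {f : X ⟶ Y}
    (h : HTop.IsVCover (PreZeroHypercover.singleton.{w} f)) : HTop.IsStandardV (PreZeroHypercover.singleton.{w} f) :=
  ⟨inferInstance, inferInstanceAs (Finite PUnit.{w + 1}), fun _ => inferInstanceAs (IsAffine X), h.hasValLift'⟩

theorem isHCover_singleton {X Y : Scheme.{u}} [IsAffine X] [IsAffine Y] (f : X ⟶ Y) [LocallyOfFinitePresentation f]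
    (h : HTop.HasValLift (PreZeroHypercover.singleton.{w} f)) :
    HTop.IsHCover (PreZeroHypercover.singleton.{w} f) :=
  haveI : Finite (PreZeroHypercover.singleton.{w} f).I₀ := inferInstanceAs (Finite PUnit.{w + 1})
  ⟨fun _ => ‹LocallyOfFinitePresentation f›, isVCover_of_hasValLift _ (fun _ => inferInstanceAs (QuasiCompact f)) h⟩

theorem isPhCover_of_isHCover {T : Scheme.{u}} {E : PreZeroHypercover.{w} T} (h : HTop.IsHCover E) :
    HTop.IsPhCover E :=
  isPhCover_of_isVCover h.1 h.2

theorem hasValLift_comp {X Z Y : Scheme.{u}} (f : X ⟶ Y) (k : X ⟶ Z) (g : Z ⟶ Y) (e : k ≫ g = f)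
    (h : HTop.HasValLift (PreZeroHypercover.singleton.{w} f)) :
    HTop.HasValLift (PreZeroHypercover.singleton.{w} g) := by
  intro V _ _ a
  obtain ⟨W, hd, hv, φ, hφ, j, l, hl⟩ := h V a
  refine ⟨W, hd, hv, φ, hφ, PUnit.unit, l ≫ k, ?_⟩
  show (l ≫ k) ≫ g = _
  rw [Category.assoc, e]
  exact hl

end Groth.Agent.HTopPh
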