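import Groth.Agent.HTopPh.Basic
import Groth.Agent.SubtrRefineLib.Limit

/-! Valuation ring lifting passes to cofiltered limits of affine schemes. -/

set_option autoImplicit false
set_option linter.style.haveILetI false
set_option backward.isDefEq.respectTransparency false
set_option backward.isDefEq.respectTransparency.types false

universe u
open CategoryTheory CategoryTheory.Limits AlgebraicGeometry TopologicalSpace Topology IsLocalRing

noncomputable section

namespace Groth.Agent.HTopPh

open Groth.Agent.SubtrRefineLib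

/-- Specializing pairs over given points in all stages come from a specializing pair of the limit. -/
theorem exists_pair_limit {J : Type u} [SmallCategory J] [IsCofiltered J] (F : J ⥤ Scheme.{u}) (cF : Cone F)
    (hcF : IsLimit cF) [∀ k, IsAffine (F.obj k)] {S : Scheme.{u}} [IsAffine S] (a : F ⟶ (Functor.const J).obj S)
    (y y' : S) (H : ∀ k, ∃ x x' : F.obj k, x' ⤳ x ∧ a.app k x = y ∧ a.app k x' = y') :
    ∃ x x' : cF.pt, x' ⤳ x ∧ ∀ k, a.app k (cF.π.app k x) = y ∧ a.app k (cF.π.app k x') = y' := by
  classical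
  haveI : ∀ {i j : J} (h : i ⟶ j), IsAffineHom (F.map h) := fun h => inferInstance
  haveI : ∀ k : J, IsAffine (((Functor.const J).obj S).obj k) := fun _ => ‹IsAffine S›
  let W : J → Type u := fun k => WithConstructibleTopology (F.obj k)
  let P := ∀ k, W k × W k
  let C : J → Set P := fun k => (fun p : P => p k) ⁻¹'
    ((((fun b : W k => a.app k b.ofTopology) ⁻¹' {y}) ×ˢ ((fun b : W k => a.app k b.ofTopology) ⁻¹' {y'})) ∩
      {p | p.2.ofTopology ⤳ p.1.ofTopology})
  have hC : ∀ k, IsClosed (C k) := fun k => by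
    refine IsClosed.preimage (continuous_apply k) (((isClosed_fibre (a.app k) y).prod (isClosed_fibre (a.app k) y')).inter ?_)
    simpa using isClosed_specializes (𝟙 (F.obj k))
  have heq : ∀ (k : J) (q q' : F.obj k), q = q' ↔ ∀ U : (F.obj k).affineOpens, q ∈ U.1 ↔ q' ∈ U.1 := fun k q q' => by
    refine ⟨fun e U => by rw [e], fun H => inseparable_iff_eq.1
      ((IsTopologicalBasis.inseparable_iff (F.obj k).isBasis_affineOpens).2 ?_)⟩
    rintro _ ⟨U, hU, rfl⟩
    exact H ⟨U, hU⟩
  let M := Σ (i : J) (j : J), (i ⟶ j)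
  let K : M → Set P := fun h =>
    {p | F.map h.2.2 (p h.1).1.ofTopology = (p h.2.1).1.ofTopology ∧ F.map h.2.2 (p h.1).2.ofTopology = (p h.2.1).2.ofTopology}
  have hK : ∀ h, IsClosed (K h) := fun h => by
    obtain ⟨i, j, h⟩ := h
    have key : ∀ (π₁ : P → W i) (π₂ : P → W j), Continuous π₁ → Continuous π₂ →
        IsClosed {p : P | F.map h (π₁ p).ofTopology = (π₂ p).ofTopology} := fun π₁ π₂ h₁ h₂ => by
      have e : {p : P | F.map h (π₁ p).ofTopology = (π₂ p).ofTopology} =
          ⋂ U : (F.obj j).affineOpens, {p | F.map h (π₁ p).ofTopology ∈ U.1 ↔ (π₂ p).ofTopology ∈ U.1} := by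
        ext p
        simp only [Set.mem_iInter, Set.mem_ofPred_eq]
        exact heq j _ _
      rw [e]
      refine isClosed_iInter fun U => ?_
      have hA := (isClopen_constructible (isCompact_preimage_affine (F.map h) U.1 U.2)
        (U.1.isOpen.preimage (F.map h).continuous)).preimage h₁
      have hB := (isClopen_constructible U.2.isCompact U.1.isOpen).preimage h₂
      convert ((hA.inter hB).union (hA.compl.inter hB.compl)).1 using 1
      ext p
      simp only [Set.mem_ofPred_eq, Set.mem_union, Set.mem_inter_iff, Set.mem_preimage, Set.mem_compl_iff, SetLike.mem_coe]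
      tauto
    exact (key _ _ (continuous_fst.comp (continuous_apply i)) (continuous_fst.comp (continuous_apply j))).inter
      (key _ _ (continuous_snd.comp (continuous_apply i)) (continuous_snd.comp (continuous_apply j)))
  have hfin : ∀ s : Finset (J ⊕ M), (Set.univ ∩ ⋂ z ∈ s, Sum.elim C K z).Nonempty := fun s => by
    let O : Finset J := (s.biUnion fun z => Sum.elim (fun k => {k}) (fun h => {h.1, h.2.1}) z)
    have hO₁ : ∀ h : M, Sum.inr h ∈ s → h.1 ∈ O ∧ h.2.1 ∈ O := fun h hh => by
      constructor <;> exact Finset.mem_biUnion.2 ⟨_, hh, by simp⟩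
    have hO₀ : ∀ k, Sum.inl k ∈ s → k ∈ O := fun k hk => Finset.mem_biUnion.2 ⟨_, hk, by simp⟩
    let Hm : Finset (Σ' (X Y : J) (_ : X ∈ O) (_ : Y ∈ O), X ⟶ Y) := s.toRight.attach.image fun h =>
      ⟨h.1.1, h.1.2.1, (hO₁ h.1 (Finset.mem_toRight.1 h.2)).1, (hO₁ h.1 (Finset.mem_toRight.1 h.2)).2, h.1.2.2⟩
    obtain ⟨l, T, hT⟩ := IsCofiltered.inf_exists O Hm
    obtain ⟨x, x', hx, e, e'⟩ := H l
    have d : ∀ k, W k × W k := fun k =>
      (WithTopology.toTopology _ (H k).choose, WithTopology.toTopology _ (H k).choose)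
    let p : P := fun k => if hk : k ∈ O then
      (WithTopology.toTopology _ (F.map (T hk) x), WithTopology.toTopology _ (F.map (T hk) x')) else d k
    refine ⟨p, trivial, Set.mem_iInter₂.2 fun z hz => ?_⟩
    rcases z with k | ⟨i, j, h⟩
    · have hk := hO₀ k hz
      have hnat : F.map (T hk) ≫ a.app k = a.app l := (a.naturality (T hk)).trans (Category.comp_id _)
      simp only [Sum.elim_inl, C, Set.mem_preimage, p, dif_pos hk]
      refine ⟨⟨?_, ?_⟩, hx.map (F.map _).continuous⟩
      · show a.app k (F.map (T hk) x) = y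
        rw [← Scheme.Hom.comp_apply, hnat]; exact e
      · show a.app k (F.map (T hk) x') = y'
        rw [← Scheme.Hom.comp_apply, hnat]; exact e'
    · obtain ⟨hi, hj⟩ := hO₁ ⟨i, j, h⟩ hz
      have hT' := hT hi hj (f := h) (Finset.mem_image.2 ⟨⟨⟨i, j, h⟩, Finset.mem_toRight.2 hz⟩, Finset.mem_attach _ _, rfl⟩)
      simp only [Sum.elim_inr, K, Set.mem_ofPred_eq, p, dif_pos hi, dif_pos hj]
      constructor
      · show F.map h (F.map (T hi) x) = F.map (T hj) x
        rw [← Scheme.Hom.comp_apply, ← F.map_comp, hT']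
      · show F.map h (F.map (T hi) x') = F.map (T hj) x'
        rw [← Scheme.Hom.comp_apply, ← F.map_comp, hT']
  obtain ⟨p, -, hp⟩ := isCompact_univ.inter_iInter_nonempty (Sum.elim C K)
    (fun z => z.rec hC hK) hfin
  rw [Set.mem_iInter] at hp
  obtain ⟨x, hx⟩ := AffLim.exists_point F cF hcF (fun k => (p k).1.ofTopology) fun {i j} h => (hp (.inr ⟨i, j, h⟩)).1
  obtain ⟨x', hx'⟩ := AffLim.exists_point F cF hcF (fun k => (p k).2.ofTopology) fun {i j} h => (hp (.inr ⟨i, j, h⟩)).2
  refine ⟨x, x', specializes_iff_forall_open.2 fun s hs hps => ?_, fun k => ?_⟩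
  · obtain ⟨_, ⟨_, ⟨k, V, hV, rfl⟩, rfl⟩, hpV, hVs⟩ :=
      (isBasis_preimage_isAffineOpen F cF hcF).exists_subset_of_mem_open hps hs
    refine hVs (show cF.π.app k x' ∈ V from ?_)
    change cF.π.app k x ∈ V at hpV
    rw [hx k] at hpV
    rw [hx' k]
    exact (hp (.inl k)).2.mem_open V.isOpen hpV
  · rw [hx k, hx' k]
    exact (hp (.inl k)).1

/-- Valuation lifting of all stages gives lifting for the limit. -/
theorem hasValLift_limit {Y : Scheme.{u}} [IsAffine Y] {I : Type u} [SmallCategory I] [IsCofiltered I]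
    (D : I ⥤ Over Y) [∀ i, IsAffine (D.obj i).left] (c : Cone D) (hc : IsLimit ((Over.forget Y).mapCone c))
    (H : ∀ i, Subtr.UnivSSubtrusive (D.obj i).hom) : Subtr.UnivSSubtrusive c.pt.hom := by
  rw [SubtrVal.univSSubtrusive_iff_valuationRing]
  intro V _ _ _ g
  let G := pullback.snd (f := c.pt.hom) (g := g)
  let F : I ⥤ Scheme.{u} :=
    { obj := fun i => pullback (D.obj i).hom g
      map := fun {i j} h => pullback.map _ _ _ _ (D.map h).left (𝟙 _) (𝟙 _)
        (by rw [Category.comp_id, Over.w]) (by simp)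
      map_id := fun i => by ext <;> simp
      map_comp := fun h h' => by ext <;> simp }
  let cF : Cone F :=
    { pt := pullback c.pt.hom g
      π :=
        { app := fun i => pullback.map _ _ _ _ (c.π.app i).left (𝟙 _) (𝟙 _)
            (by rw [Category.comp_id, Over.w]; rfl) (by simp)
          naturality := fun i j h => by
            apply pullback.hom_ext <;> simp [F, pullback.map, ← Over.comp_left] } }
  obtain ⟨i₀⟩ := IsCofiltered.nonempty (C := I)
  have key : ∀ (s : Cone F) (i j : I), s.π.app i ≫ pullback.snd _ _ = s.π.app j ≫ pullback.snd _ _ := fun s i j => by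
    rw [← s.w (IsCofiltered.minToLeft i j), ← s.w (IsCofiltered.minToRight i j)]
    simp [F, pullback.map]
  let lf : ∀ s : Cone F, Cone (D ⋙ Over.forget Y) := fun s =>
    { pt := s.pt
      π :=
        { app := fun i => s.π.app i ≫ pullback.fst _ _
          naturality := fun i j h => by
            rw [← s.w h]
            simp [F, pullback.map] } }
  have hlift : ∀ s : Cone F, hc.lift (lf s) ≫ c.pt.hom = (s.π.app i₀ ≫ pullback.snd _ _) ≫ g := fun s => by
    have e : hc.lift (lf s) ≫ (c.π.app i₀).left = s.π.app i₀ ≫ pullback.fst _ _ := hc.fac (lf s) i₀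
    rw [Category.assoc, ← pullback.condition, ← reassoc_of% e, Over.w]
    rfl
  have hcF : IsLimit cF :=
    { lift := fun s => pullback.lift (hc.lift (lf s)) (s.π.app i₀ ≫ pullback.snd _ _) (hlift s)
      fac := fun s i => by
        apply pullback.hom_ext
        · simp only [cF, pullback.map, Category.assoc, pullback.lift_fst, pullback.lift_fst_assoc]
          exact hc.fac (lf s) i
        · simp only [cF, pullback.map, Category.assoc, pullback.lift_snd, Category.comp_id]
          exact key s i₀ i
      uniq := fun s m hm => by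
        apply pullback.hom_ext
        · rw [pullback.lift_fst]
          refine hc.uniq (lf s) _ fun i => ?_
          show (m ≫ pullback.fst _ _) ≫ (c.π.app i).left = s.π.app i ≫ pullback.fst _ _
          rw [← hm i]
          simp [cF, pullback.map]
        · rw [pullback.lift_snd, ← hm i₀]
          simp [cF, pullback.map] }
  haveI : ∀ i, IsAffine (F.obj i) := fun i => inferInstanceAs (IsAffine (pullback (D.obj i).hom g))
  let a : F ⟶ (Functor.const I).obj (Spec (CommRingCat.of V)) :=
    { app := fun i => pullback.snd (D.obj i).hom g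
      naturality := fun i j h => by simp [F, pullback.map] }
  intro y y' hy
  obtain ⟨x, x', hx, e⟩ := exists_pair_limit F cF hcF a y y' (fun k => by
    obtain ⟨x, x', hx, e, e'⟩ := (SubtrVal.univSSubtrusive_iff_valuationRing _).1 (H k) V g hy
    exact ⟨x, x', hx, e, e'⟩)
  have e3 : cF.π.app i₀ ≫ a.app i₀ = pullback.snd c.pt.hom g := by simp [cF, a, pullback.map]
  exact ⟨x, x', hx, by rw [← e3, Scheme.Hom.comp_apply]; exact (e i₀).1,
    by rw [← e3, Scheme.Hom.comp_apply]; exact (e i₀).2⟩

end Groth.Agent.HTopPh
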